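import Groth.Agent.DRingKP.Res

/-!
Bounded above finite free representatives over an algebra, not necessarily commutative, which is finite free over
the base ring.
-/

set_option autoImplicit false
set_option linter.style.haveILetI false
universe u

namespace Groth.Agent.DRingNC

open CategoryTheory Limits Pretriangulated DerivedCategory CochainComplex CochainComplex.HomComplex ZeroObject

attribute [local instance] HasDerivedCategory.standard

/-- complexes of modules -/
abbrev Cx (R : Type u) [Ring R] := CochainComplex (ModuleCat.{u} R) ℤ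

variable (A : Type u) [CommRing A] {R : Type u} [Ring R] [Algebra A R]

variable (R) in
/-- restriction of complexes -/
noncomputable abbrev res : Cx R ⥤ DRing.Cx A :=
  (ModuleCat.restrictScalars.{u} (algebraMap A R)).mapHomologicalComplex (ComplexShape.up ℤ)

lemma finiteFree_of_isZero {M : ModuleCat.{u} R} (h : IsZero M) : Module.Finite R M ∧ Module.Free R M :=
  haveI := ModuleCat.subsingleton_of_isZero h
  ⟨inferInstance, inferInstance⟩

lemma finiteFree_biprod {M N : ModuleCat.{u} R} (h : Module.Finite R M ∧ Module.Free R M)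
    (h' : Module.Finite R N ∧ Module.Free R N) :
    Module.Finite R (M ⊞ N : ModuleCat.{u} R) ∧ Module.Free R (M ⊞ N : ModuleCat.{u} R) := by
  haveI := h.1; haveI := h.2; haveI := h'.1; haveI := h'.2
  exact ⟨Module.Finite.equiv (ModuleCat.biprodIsoProd M N).toLinearEquiv.symm,
    Module.Free.of_equiv (ModuleCat.biprodIsoProd M N).toLinearEquiv.symm⟩

lemma isIso_homologyMap_of_cone {K L : Cx R} (f : K ⟶ L) (i : ℤ) (h : IsZero ((mappingCone f).homology (i - 1)))
    (h' : IsZero ((mappingCone f).homology i)) : IsIso (HomologicalComplex.homologyMap f i) := by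
  refine (NatIso.isIso_map_iff (homologyFunctorFactors (ModuleCat.{u} R) i) f).1 ?_
  have hT := DerivedCategory.mappingCone_triangle_distinguished f
  have hz : ∀ j, IsZero ((mappingCone f).homology j) →
      IsZero ((DerivedCategory.homologyFunctor (ModuleCat.{u} R) j).obj (DerivedCategory.Q.obj (mappingCone f))) :=
    fun j hj => hj.of_iso ((homologyFunctorFactors (ModuleCat.{u} R) j).app _)
  haveI : Epi ((DerivedCategory.homologyFunctor (ModuleCat.{u} R) i).map (DerivedCategory.Q.map f)) :=
    (HomologySequence.epi_homologyMap_mor₁_iff _ hT i).2 ((hz i h').eq_of_tgt _ _)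
  haveI : Mono ((DerivedCategory.homologyFunctor (ModuleCat.{u} R) i).map (DerivedCategory.Q.map f)) :=
    (HomologySequence.mono_homologyMap_mor₁_iff _ hT (i - 1) i (by lia)).2 ((hz (i - 1) h).eq_of_src _ _)
  show IsIso ((DerivedCategory.homologyFunctor (ModuleCat.{u} R) i).map (DerivedCategory.Q.map f))
  exact isIso_of_mono_of_epi _

lemma isZero_cone {K L : Cx R} (f : K ⟶ L) (i : ℤ) (h : IsZero (K.homology (i + 1))) (h' : IsZero (L.homology i)) :
    IsZero ((mappingCone f).homology i) := by
  have hT := DerivedCategory.mappingCone_triangle_distinguished f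
  have e : IsZero ((DerivedCategory.homologyFunctor (ModuleCat.{u} R) i).obj (DerivedCategory.Q.obj (mappingCone f))) :=
    (HomologySequence.exact₃ _ hT i (i + 1) rfl).isZero_of_both_zeros
      ((h'.of_iso ((homologyFunctorFactors (ModuleCat.{u} R) i).app L)).eq_of_src _ _)
      ((h.of_iso ((homologyFunctorFactors (ModuleCat.{u} R) (i + 1)).app K)).eq_of_tgt _ _)
  exact e.of_iso ((homologyFunctorFactors (ModuleCat.{u} R) i).app _).symm

variable [PreservesFiniteLimits (ModuleCat.restrictScalars.{u} (algebraMap A R))]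
  [PreservesFiniteColimits (ModuleCat.restrictScalars.{u} (algebraMap A R))]

/-- cohomology of a restriction -/
noncomputable def resHIso (K : Cx R) (i : ℤ) :
    ((res A R).obj K).homology i ≅ (ModuleCat.restrictScalars.{u} (algebraMap A R)).obj (K.homology i) :=
  (K.sc i).mapHomologyIso (ModuleCat.restrictScalars.{u} (algebraMap A R))

lemma finiteFree_res [Module.Finite A R] [Module.Free A R] (M : ModuleCat.{u} R) [Module.Finite R M] [Module.Free R M] :
    Module.Finite A ((ModuleCat.restrictScalars.{u} (algebraMap A R)).obj M) ∧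
      Module.Free A ((ModuleCat.restrictScalars.{u} (algebraMap A R)).obj M) := by
  letI : Module A M := Module.compHom M (algebraMap A R)
  haveI : IsScalarTower A R M := ⟨fun a r x => by rw [Algebra.smul_def, mul_smul]; rfl⟩
  exact ⟨(Module.Finite.trans R M : Module.Finite A M), (Module.Free.trans (R := A) (S := R) (M := M) : Module.Free A M)⟩

lemma exists_above {G : Cx R} {m : ℤ} (hG : DRing.IsPseudoCoherent A m (DRing.toD ((res A R).obj G))) :
    ∃ c, ∀ i, c ≤ i → IsZero (G.homology i) := by
  obtain ⟨c, hc⟩ := DRingKP.pc_bounded hG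
  refine ⟨c, fun i hi => ?_⟩
  have h := ((hc i hi).of_iso ((homologyFunctorFactors (ModuleCat.{u} A) i).app _).symm).of_iso (resHIso A G i).symm
  haveI := ModuleCat.subsingleton_of_isZero h
  exact @ModuleCat.isZero_of_subsingleton _ _ _ ‹_›

lemma finite_homology_cone [Module.Finite A R] [Module.Free A R] {E G : Cx R} (q : E ⟶ G)
    (hG : ∀ m, DRing.IsPseudoCoherent A m (DRing.toD ((res A R).obj G))) (n b : ℤ)
    (hE : ∀ i : ℤ, i < n ∨ b < i → IsZero (E.X i)) (hEf : ∀ i : ℤ, Module.Finite R (E.X i) ∧ Module.Free R (E.X i))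
    (habove : ∀ i, n ≤ i → IsZero ((mappingCone q).homology i)) :
    Module.Finite R ((mappingCone q).homology (n - 1)) := by
  let Φ := ModuleCat.restrictScalars.{u} (algebraMap A R)
  have hA : ∀ i, Module.Finite A (((res A R).obj E).X i) ∧ Module.Free A (((res A R).obj E).X i) := fun i => by
    haveI := (hEf i).1; haveI := (hEf i).2
    exact finiteFree_res A (E.X i)
  have hEpc : DRing.IsPseudoCoherent A n (DRing.toD ((res A R).obj E)) := DRingKP.pc_iff.2
    ⟨(res A R).obj E, n, b, 𝟙 _, fun i hi => Φ.map_isZero (hE i hi), hA, DRingKP.mIso_of_isIso n _⟩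
  have hT := Φ.mapDerivedCategory.map_distinguished _ (DerivedCategory.mappingCone_triangle_distinguished q)
  have hC : DRing.IsPseudoCoherent A (n - 1) (DRing.toD ((res A R).obj (mappingCone q))) :=
    DRingKP.pc_of_iso (Φ.mapDerivedCategoryFactors.app (mappingCone q)) (DRingKP.pc_obj₃ _ hT (n - 1)
      (DRingKP.pc_of_iso (Φ.mapDerivedCategoryFactors.app E).symm (by simpa using hEpc))
      (DRingKP.pc_of_iso (Φ.mapDerivedCategoryFactors.app G).symm (hG _)))
  have hfin := DRingKP.finite_top hC fun i hi => ((Φ.map_isZero (habove i (by lia))).of_iso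
    (resHIso A (mappingCone q) i)).of_iso ((homologyFunctorFactors (ModuleCat.{u} A) i).app _)
  haveI : Module.Finite A (Φ.obj ((mappingCone q).homology (n - 1))) :=
    haveI : Module.Finite A ((DerivedCategory.Q ⋙ DerivedCategory.homologyFunctor (ModuleCat.{u} A) (n - 1)).obj
      ((res A R).obj (mappingCone q))) := hfin
    Module.Finite.equiv (((homologyFunctorFactors (ModuleCat.{u} A) (n - 1)).app ((res A R).obj (mappingCone q))) ≪≫
      resHIso A (mappingCone q) (n - 1)).toLinearEquiv
  letI : Module A ((mappingCone q).homology (n - 1)) := Module.compHom _ (algebraMap A R)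
  haveI : IsScalarTower A R ((mappingCone q).homology (n - 1)) :=
    ⟨fun a r x => by rw [Algebra.smul_def, mul_smul]; rfl⟩
  haveI : Module.Finite A ((mappingCone q).homology (n - 1)) :=
    ‹Module.Finite A (Φ.obj ((mappingCone q).homology (n - 1)))›
  exact Module.Finite.of_restrictScalars_finite A R _

/-- maps isomorphic in three degrees are isomorphisms on homology -/
lemma isIso_homologyMap_of_isIso_f {K L : Cx R} (φ : K ⟶ L) (i : ℤ)
    (h : ∀ j, i - 1 ≤ j → j ≤ i + 1 → IsIso (φ.f j)) : IsIso (HomologicalComplex.homologyMap φ i) := by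
  let ψ := (HomologicalComplex.shortComplexFunctor (ModuleCat.{u} R) (ComplexShape.up ℤ) i).map φ
  haveI : IsIso ψ.τ₁ := h _ (by simp) (by simp; lia)
  haveI : IsIso ψ.τ₂ := h i (by lia) (by lia)
  haveI : IsIso ψ.τ₃ := h _ (by simp; lia) (by simp)
  haveI : IsIso ψ := ShortComplex.isIso_of_isIso ψ
  exact inferInstanceAs (IsIso ((ShortComplex.homologyFunctor _).map ψ))

/-- a partial resolution of `G` down to degree `n` -/
structure Approx (G : Cx R) (b n : ℤ) where
  /-- the complex -/
  E : Cx R
  /-- its map to `G` -/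
  q : E ⟶ G
  vanish : ∀ i : ℤ, i < n ∨ b < i → IsZero (E.X i)
  free : ∀ i : ℤ, Module.Finite R (E.X i) ∧ Module.Free R (E.X i)
  above : ∀ i, n ≤ i → IsZero ((mappingCone q).homology i)

variable {G : Cx R} {b : ℤ}

theorem exists_next [Module.Finite A R] [Module.Free A R]
    (hG : ∀ m, DRing.IsPseudoCoherent A m (DRing.toD ((res A R).obj G))) (n : ℤ) (hn : n ≤ b + 1)
    (s : Approx G b n) : ∃ (s' : Approx G b (n - 1)) (φ : s.E ⟶ s'.E), φ ≫ s'.q = s.q ∧
      ∀ i, i ≠ n - 1 → IsIso (φ.f i) := by
  let C := mappingCone s.q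
  have habove : ∀ i, n ≤ i → IsZero (C.homology i) := s.above
  haveI : Module.Finite R (C.homology (n - 1)) := finite_homology_cone A s.q hG n b s.vanish s.free habove
  obtain ⟨r, p, hp⟩ := Module.Finite.exists_fin' R (C.homology (n - 1))
  let F : ModuleCat.{u} R := ModuleCat.of R (Fin r → R)
  haveI : CategoryTheory.Projective F :=
    (IsProjective.iff_projective (ModuleCat.of R (Fin r → R))).1 inferInstance
  let ε₀ : F ⟶ C.cycles (n - 1) := Projective.factorThru (ModuleCat.ofHom p) (C.homologyπ (n - 1))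
  have hε₀ : ε₀ ≫ C.homologyπ (n - 1) = ModuleCat.ofHom p := Projective.factorThru_comp _ _
  let ε : F ⟶ C.X (n - 1) := ε₀ ≫ C.iCycles (n - 1)
  have hε : ε ≫ C.d (n - 1) n = 0 := by simp [ε]
  let P : Cx R := (HomologicalComplex.single _ (ComplexShape.up ℤ) n).obj F
  have hP : ∀ i, i ≠ n → IsZero (P.X i) := fun i hi => HomologicalComplex.isZero_single_obj_X _ n F i hi
  let e : P.X n ≅ F := HomologicalComplex.singleObjXSelf (ComplexShape.up ℤ) n F
  let f : P ⟶ s.E := HomologicalComplex.mkHomFromSingle
    (ε ≫ (mappingCone.fst s.q).1.v (n - 1) n (by lia)) (fun k hk => by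
      obtain rfl : n + 1 = k := hk
      have h := hε =≫ (mappingCone.fst s.q).1.v n (n + 1) rfl
      rw [Category.assoc, zero_comp, mappingCone.d_fst_v _ (n - 1) n (n + 1) (by lia) rfl] at h
      simpa using h)
  let α : Cochain P G (-1) := Cochain.mk fun x y h =>
    if hx : x = n then
      -(eqToHom (by rw [hx]) ≫ e.hom ≫ ε ≫ (mappingCone.snd s.q).v (n - 1) (n - 1) (add_zero _) ≫
        eqToHom (congrArg G.X (by lia)))
    else 0
  have hαv : α.v n (n - 1) (by lia) =
      -(e.hom ≫ ε ≫ (mappingCone.snd s.q).v (n - 1) (n - 1) (add_zero _)) := by simp [α]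
  have hα : δ (-1) 0 α = Cochain.ofHom (f ≫ s.q) := by
    ext x
    by_cases hx : x = n
    · subst hx
      have h := hε =≫ (mappingCone.snd s.q).v x x (add_zero x)
      rw [Category.assoc, zero_comp, mappingCone.d_snd_v _ (x - 1) x (by lia), Preadditive.comp_add,
        add_eq_zero_iff_eq_neg] at h
      rw [δ_v (-1) 0 (neg_add_cancel 1) α x x (add_zero x) (x - 1) (x + 1) rfl rfl, hαv]
      have h0 : α.v (x + 1) x (by lia) = 0 := (hP (x + 1) (by lia)).eq_of_src _ _
      rw [h0, comp_zero, smul_zero, add_zero, Cochain.ofHom_v, HomologicalComplex.comp_f,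
        HomologicalComplex.mkHomFromSingle_f]
      simp only [e, Category.assoc]
      rw [h]
      simp
    · exact LinearMap.congr_fun (congrArg ModuleCat.Hom.hom ((hP x hx).eq_of_src _ _)) _
  let E' := mappingCone f
  let q' : E' ⟶ G := mappingCone.desc f α s.q hα
  have hinr : ∀ i, i ≠ n - 1 → IsIso ((mappingCone.inr f).f i) := fun i hi => by
    haveI : Epi ((mappingCone.inr f).f i) := ⟨fun g g' hgg => by
      rw [mappingCone.ext_from_iff _ (i + 1) i rfl]
      exact ⟨(hP (i + 1) (by lia)).eq_of_src _ _, hgg⟩⟩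
    haveI : Mono ((mappingCone.inr f).f i) := ⟨fun g g' hgg => by
      simpa using hgg =≫ (mappingCone.snd f).v i i (add_zero i)⟩
    exact isIso_of_mono_of_epi _
  let φ : s.E ⟶ E' := mappingCone.inr f
  have hφ : φ ≫ q' = s.q := by ext i; simp [φ, q']
  have hfree : ∀ i : ℤ, Module.Finite R (E'.X i) ∧ Module.Free R (E'.X i) := fun i => by
    have h₁ : Module.Finite R (P.X (i + 1)) ∧ Module.Free R (P.X (i + 1)) := by
      by_cases hi : i + 1 = n
      · subst hi
        exact ⟨Module.Finite.equiv e.toLinearEquiv.symm, Module.Free.of_equiv e.toLinearEquiv.symm⟩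
      · exact finiteFree_of_isZero (hP (i + 1) hi)
    obtain ⟨h, h'⟩ := finiteFree_biprod h₁ (s.free i)
    let eq := (HomologicalComplex.homotopyCofiber.XIsoBiprod f i (i + 1) rfl).symm.toLinearEquiv
    exact ⟨Module.Finite.equiv eq, Module.Free.of_equiv eq⟩
  have hvan : ∀ i : ℤ, i < n - 1 ∨ b < i → IsZero (E'.X i) := fun i hi =>
    IsZero.of_iso (biprod_isZero_iff _ _ |>.2 ⟨hP (i + 1) (by lia), s.vanish i (by lia)⟩)
      (HomologicalComplex.homotopyCofiber.XIsoBiprod f i (i + 1) rfl)
  let j : C ⟶ mappingCone q' := mappingCone.map s.q q' φ (𝟙 G) (by rw [Category.comp_id, hφ])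
  have hj : ∀ i, n - 1 ≤ i → IsIso (j.f i) := fun i hi => by
    haveI : IsIso (φ.f (i + 1)) := hinr (i + 1) (by lia)
    refine ⟨(mappingCone.fst q').1.v i (i + 1) rfl ≫ inv (φ.f (i + 1)) ≫
        (mappingCone.inl s.q).v (i + 1) i (by lia) +
      (mappingCone.snd q').v i i (add_zero i) ≫ (mappingCone.inr s.q).f i, ?_, ?_⟩
    · rw [mappingCone.ext_from_iff _ (i + 1) i rfl]
      constructor <;> simp [j, C, mappingCone.map, mappingCone.desc_f _ _ _ _ i (i + 1) rfl]
    · rw [mappingCone.ext_from_iff _ (i + 1) i rfl]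
      constructor <;> simp [j, C, mappingCone.map, mappingCone.desc_f _ _ _ _ i (i + 1) rfl]
  have hepi : ∀ i, n - 1 ≤ i → Epi (HomologicalComplex.homologyMap j i) := fun i hi => by
    let ψ := (HomologicalComplex.shortComplexFunctor (ModuleCat.{u} R) (ComplexShape.up ℤ) i).map j
    haveI h₂ : IsIso ψ.τ₂ := hj i hi
    haveI : IsIso ψ.τ₃ := hj _ (by simp; lia)
    haveI := ShortComplex.isIso_cyclesMap_of_isIso_of_mono' ψ h₂ inferInstance
    exact ShortComplex.epi_homologyMap_of_epi_cyclesMap ψ
  have hnull : HomologicalComplex.homologyMap j (n - 1) = 0 := by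
    haveI : Epi (ModuleCat.ofHom p) := (ModuleCat.epi_iff_surjective _).2 hp
    rw [← cancel_epi (ModuleCat.ofHom p), comp_zero, ← hε₀, Category.assoc,
      HomologicalComplex.homologyπ_naturality, ← Category.assoc]
    let x : F ⟶ (mappingCone q').X (n - 2) :=
      -(e.inv ≫ (mappingCone.inl f).v n (n - 1) (by lia) ≫ (mappingCone.inl q').v (n - 1) (n - 2) (by lia))
    have hx : ε ≫ j.f (n - 1) = x ≫ (mappingCone q').d (n - 2) (n - 1) := by
      simp only [x, Preadditive.neg_comp, Category.assoc]
      rw [mappingCone.inl_v_d q' (n - 1) (n - 2) n (by lia) (by lia), Preadditive.comp_sub,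
        ← Category.assoc ((mappingCone.inl f).v n (n - 1) _) (E'.d (n - 1) n),
        mappingCone.inl_v_d f n (n - 1) (n + 1) (by lia) (by lia), (hP (n + 1) (by lia)).eq_of_tgt
          (P.d n (n + 1)) 0]
      simp only [zero_comp, sub_zero, Category.assoc, Preadditive.comp_sub]
      rw [mappingCone.ext_to_iff q' (n - 1) n (by lia)]
      constructor
      · simp [j, mappingCone.map, mappingCone.desc_f _ _ _ _ (n - 1) n (by lia), q', e, f, φ,
          HomologicalComplex.mkHomFromSingle_f]
      · simp [j, mappingCone.map, mappingCone.desc_f _ _ _ _ (n - 1) n (by lia), q', e, f, φ, hαv]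
    have hlift : ε₀ ≫ HomologicalComplex.cyclesMap j (n - 1) = (mappingCone q').liftCycles
        (x ≫ (mappingCone q').d (n - 2) (n - 1)) n (by simp) (by simp) := by
      rw [← cancel_mono ((mappingCone q').iCycles (n - 1))]
      simp [← hx, ε]
    rw [hlift]
    exact (mappingCone q').liftCycles_homologyπ_eq_zero_of_boundary _ n (by simp) x rfl
  refine ⟨⟨E', q', hvan, hfree, fun i hi => ?_⟩, φ, hφ, hinr⟩
  haveI := hepi i hi
  refine IsZero.of_epi_eq_zero (HomologicalComplex.homologyMap j i) ?_
  obtain rfl | hi := eq_or_lt_of_le hi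
  · exact hnull
  · exact (habove i (by lia)).eq_of_src _ _

/-- objects which become pseudo-coherent have a bounded above finite free representative -/
theorem exists_rep [Module.Finite A R] [Module.Free A R]
    (G : Cx R)
    (hG : ∀ m, DRing.IsPseudoCoherent A m (DRing.toD ((res A R).obj G))) :
    ∃ (E : Cx R) (b : ℤ) (q : E ⟶ G), (∀ i : ℤ, b < i → IsZero (E.X i)) ∧
      (∀ i : ℤ, Module.Finite R (E.X i) ∧ Module.Free R (E.X i)) ∧ QuasiIso q := by
  obtain ⟨c, hc⟩ := exists_above A (hG 0)
  let b := c - 1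
  have s₀ : Nonempty (Approx G b (b + 1 - ((0 : ℕ) : ℤ))) := by
    refine ⟨⟨0, 0, fun i _ => (HomologicalComplex.eval _ _ i).map_isZero (isZero_zero _),
      fun i => finiteFree_of_isZero ((HomologicalComplex.eval _ _ i).map_isZero (isZero_zero _)),
      fun i hi => ?_⟩⟩
    refine isZero_cone _ i ((ShortComplex.isZero_homology_of_isZero_X₂ _
      ((HomologicalComplex.eval _ _ (i + 1)).map_isZero (isZero_zero _)))) (hc i (by lia))
  have step : ∀ (k : ℕ) (s : Approx G b (b + 1 - k)), ∃ (s' : Approx G b (b + 1 - (k + 1 : ℕ)))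
      (φ : s.E ⟶ s'.E), φ ≫ s'.q = s.q ∧ ∀ i, i ≠ b - k → IsIso (φ.f i) := fun k s => by
    have h := exists_next A hG (b + 1 - k) (by lia) s
    rw [show b + 1 - (k : ℤ) - 1 = b + 1 - ((k + 1 : ℕ) : ℤ) by lia] at h
    obtain ⟨s', φ, h₁, h₂⟩ := h
    exact ⟨s', φ, h₁, fun i hi => h₂ i (by lia)⟩
  choose nxt φ hφ hiso using step
  let S : ∀ k : ℕ, Approx G b (b + 1 - k) := fun k => Nat.rec s₀.some (fun k s => nxt k s) k
  let j : ∀ k, (S k).E ⟶ (S (k + 1)).E := fun k => φ k (S k)
  let D := Functor.ofSequence j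
  let τ : Cocone D :=
    { pt := G
      ι := NatTrans.ofSequence (fun k => (S k).q) fun k => by
        simp only [D, Functor.ofSequence_map_homOfLE_succ, Functor.const_obj_map]
        exact (hφ k (S k)).trans (Category.comp_id _).symm }
  let E := colimit D
  let q : E ⟶ G := colimit.desc D τ
  have hcoli : ∀ (i : ℤ) (k : ℕ), b + 1 - k ≤ i → IsIso ((colimit.ι D k).f i) := fun i k hk => by
    have hev : (D ⋙ HomologicalComplex.eval _ _ i).IsEventuallyConstantFrom k := by
      intro l f
      obtain ⟨d, rfl⟩ := Nat.exists_eq_add_of_le (leOfHom f)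
      obtain rfl : f = homOfLE (Nat.le_add_right k d) := Subsingleton.elim _ _
      induction d with
      | zero => exact inferInstanceAs (IsIso ((D ⋙ _).map (𝟙 k)))
      | succ d ih =>
        rw [show homOfLE (Nat.le_add_right k (d + 1)) =
          homOfLE (Nat.le_add_right k d) ≫ homOfLE (Nat.le_succ (k + d)) from rfl, Functor.map_comp]
        haveI := ih
        haveI : IsIso ((D ⋙ HomologicalComplex.eval _ _ i).map (homOfLE (Nat.le_succ (k + d)))) := by
          simp only [Functor.comp_map, D, Functor.ofSequence_map_homOfLE_succ]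
          exact hiso _ _ i (by lia)
        infer_instance
    exact hev.isIso_ι_of_isColimit (isColimitOfPreserves _ (colimit.isColimit D))
  haveI : QuasiIso q := by
    rw [quasiIso_iff]
    intro i
    let k := (b + 1 - (i - 2)).toNat
    rw [quasiIsoAt_iff_isIso_homologyMap]
    haveI := isIso_homologyMap_of_isIso_f (colimit.ι D k) i fun l hl _ => hcoli l k (by lia)
    have hq : HomologicalComplex.homologyMap (colimit.ι D k) i ≫ HomologicalComplex.homologyMap q i =
        HomologicalComplex.homologyMap (τ.ι.app k) i := by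
      exact (HomologicalComplex.homologyMap_comp _ _ i).symm.trans
        (congrArg (fun t => HomologicalComplex.homologyMap t i) (colimit.ι_desc τ k))
    haveI : IsIso (HomologicalComplex.homologyMap (τ.ι.app k) i) :=
      isIso_homologyMap_of_cone (S k).q i ((S k).above (i - 1) (by lia)) ((S k).above i (by lia))
    exact IsIso.of_isIso_fac_left hq
  refine ⟨E, b, q, fun i hi => ?_, fun i => ?_, inferInstance⟩
  · haveI := hcoli i 0 (by lia)
    exact ((S 0).vanish i (Or.inr hi)).of_iso (asIso ((colimit.ι D 0).f i)).symm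
  · let k := (b + 1 - i).toNat
    haveI := hcoli i k (by lia)
    haveI : Module.Finite R ((D.obj k).X i) := ((S k).free i).1
    haveI : Module.Free R ((D.obj k).X i) := ((S k).free i).2
    let e := (asIso ((colimit.ι D k).f i)).toLinearEquiv
    exact ⟨Module.Finite.equiv e, Module.Free.of_equiv e⟩

end Groth.Agent.DRingNC
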